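import Groth.Agent.S7660
import Groth.Agent.S7665
import Mathlib

/-!
# Finitely many points of codimension at most one on an integral separated scheme
-/

set_option autoImplicit false
set_option linter.all false
set_option backward.isDefEq.respectTransparency false
set_option maxHeartbeats 1000000

universe u

open CategoryTheory CategoryTheory.Limits AlgebraicGeometry TopologicalSpace IsLocalRing

noncomputable section

namespace GrothLib.FinAffGlue2

variable {X : Scheme.{u}} [IsIntegral X] [X.IsSeparated]

/-- A point with zero-dimensional local ring is the generic point. -/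
theorem eq_genericPoint (x : X) (h : ringKrullDim (X.presheaf.stalk x) ≤ 0) : x = genericPoint X := by
  obtain ⟨z, hz⟩ : genericPoint X ∈ Set.range (X.fromSpecStalk x) := by
    rw [Scheme.range_fromSpecStalk]; exact genericPoint_specializes x
  haveI : Ring.KrullDimLE 0 (X.presheaf.stalk x) := Ring.krullDimLE_iff.2 h
  have : z = closedPoint (X.presheaf.stalk x) := PrimeSpectrum.ext (IsLocalRing.eq_maximalIdeal inferInstance)
  rw [← hz, this, Scheme.fromSpecStalk_closedPoint]

variable {r : ℕ} (x : Fin r → X)

/-- The local ring inside the function field. -/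
abbrev sub (i : Fin r) : Subring X.functionField := (algebraMap (X.presheaf.stalk (x i)) X.functionField).range

/-- The local ring is isomorphic to its image. -/
def subEquiv (i : Fin r) : X.presheaf.stalk (x i) ≃+* sub x i :=
  RingEquiv.ofBijective (algebraMap (X.presheaf.stalk (x i)) X.functionField).rangeRestrict
    ⟨fun a b h => IsFractionRing.injective (X.presheaf.stalk (x i)) X.functionField (congrArg Subtype.val h),
      RingHom.rangeRestrict_surjective _⟩

/-- The map from the spectrum of the local ring inside the function field. -/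
def toX (i : Fin r) : Spec (CommRingCat.of (sub x i)) ⟶ X :=
  Spec.map (CommRingCat.ofHom (subEquiv x i).toRingHom) ≫ X.fromSpecStalk (x i)

theorem generic_toX (i : Fin r) :
    Spec.map (CommRingCat.ofHom (sub x i).subtype) ≫ toX x i = X.fromSpecStalk (genericPoint X) := by
  rw [toX, ← Spec.map_comp_assoc, ← X.SpecMap_stalkSpecializes_fromSpecStalk (genericPoint_specializes (x i))]
  rfl

theorem isFractionRing_sub (i : Fin r) : IsFractionRing (sub x i) X.functionField := by
  refine IsFractionRing.of_field (sub x i) X.functionField fun z => ?_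
  obtain ⟨a, b, hb, rfl⟩ := IsFractionRing.div_surjective (A := X.presheaf.stalk (x i)) z
  exact ⟨subEquiv x i a, subEquiv x i b, rfl⟩

theorem toX_closedPoint (i : Fin r) (Q : PrimeSpectrum (sub x i)) (hQ : Q.asIdeal.IsMaximal) :
    toX x i Q = x i := by
  rw [toX, Scheme.Hom.comp_apply]
  have h : Spec.map (CommRingCat.ofHom (subEquiv x i).toRingHom) Q = closedPoint (X.presheaf.stalk (x i)) := by
    refine PrimeSpectrum.ext (IsLocalRing.eq_maximalIdeal ?_)
    show (Q.asIdeal.comap (subEquiv x i).toRingHom).IsMaximal
    haveI := hQ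
    exact Ideal.comap_isMaximal_of_surjective _ (subEquiv x i).surjective
  rw [h]
  exact Scheme.fromSpecStalk_closedPoint

variable (hN : ∀ i, IsNoetherianRing (X.presheaf.stalk (x i))) (hd : ∀ i, ringKrullDim (X.presheaf.stalk (x i)) = 1)
  (hinj : Function.Injective x)

include hd in
/-- A nonzero prime of the local ring is maximal. -/
theorem isMaximal_of_ne_bot (i : Fin r) (P : Ideal (sub x i)) [P.IsPrime] (hP : P ≠ ⊥) : P.IsMaximal := by
  haveI : Ring.KrullDimLE 1 (sub x i) := Ring.krullDimLE_iff.2 (by
    rw [← ringKrullDim_eq_of_ringEquiv (subEquiv x i), hd i]; rfl)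
  exact Ring.krullDimLE_one_iff_of_noZeroDivisors.1 inferInstance P hP inferInstance

include hd hinj in
/-- Local rings at distinct points generate the function field. -/
theorem sup_eq_top {i j : Fin r} (hij : i ≠ j) : sub x i ⊔ sub x j = ⊤ := by
  by_contra hne
  set C := sub x i ⊔ sub x j with hC
  have hnf : ¬ IsField C := fun hF => hne (top_le_iff.1 fun z _ => by
    obtain ⟨a, b, hb, rfl⟩ := IsFractionRing.div_surjective (A := X.presheaf.stalk (x i)) z
    have ha : algebraMap (X.presheaf.stalk (x i)) X.functionField a ∈ C := (le_sup_left : sub x i ≤ C) ⟨a, rfl⟩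
    have hb' : algebraMap (X.presheaf.stalk (x i)) X.functionField b ∈ C := (le_sup_left : sub x i ≤ C) ⟨b, rfl⟩
    have hb0 : algebraMap (X.presheaf.stalk (x i)) X.functionField b ≠ 0 :=
      (map_ne_zero_iff _ (IsFractionRing.injective _ _)).2 (nonZeroDivisors.ne_zero hb)
    obtain ⟨c, hc⟩ := hF.mul_inv_cancel (a := ⟨_, hb'⟩) (fun h => hb0 (congrArg Subtype.val h))
    have hc' : algebraMap (X.presheaf.stalk (x i)) X.functionField b * (c : X.functionField) = 1 :=
      congrArg Subtype.val hc
    rw [div_eq_mul_inv, show (algebraMap (X.presheaf.stalk (x i)) X.functionField b)⁻¹ = c from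
      inv_eq_of_mul_eq_one_right hc']
    exact C.mul_mem ha c.2)
  obtain ⟨P, hP0, hP⟩ := Ring.not_isField_iff_exists_prime.1 hnf
  haveI := hP
  let mi := Spec.map (CommRingCat.ofHom (Subring.inclusion (le_sup_left : sub x i ≤ C)))
  let mj := Spec.map (CommRingCat.ofHom (Subring.inclusion (le_sup_right : sub x j ≤ C)))
  let gC := Spec.map (CommRingCat.ofHom C.subtype)
  haveI : IsDominant gC := ⟨(PrimeSpectrum.denseRange_comap_iff_ker_le_nilRadical C.subtype).2
    (((RingHom.injective_iff_ker_eq_bot C.subtype).1 Subtype.val_injective).trans_le bot_le)⟩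
  haveI : IsSeparated (terminal.from X) := Scheme.IsSeparated.isSeparated_terminal_from
  have heq : mi ≫ toX x i = mj ≫ toX x j :=
    ext_of_isDominant_of_isSeparated (terminal.from X) (terminal.hom_ext _ _) gC (by
      simp only [gC, mi, mj, ← Spec.map_comp_assoc]
      exact (generic_toX x i).trans (generic_toX x j).symm)
  have hmax : ∀ (l : Fin r) (hl : sub x l ≤ C), (P.comap (Subring.inclusion hl)).IsMaximal := fun l hl => by
    refine isMaximal_of_ne_bot x hd l _ fun hbot => ?_
    obtain ⟨c, hcP, hc0⟩ := Submodule.exists_mem_ne_zero_of_ne_bot hP0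
    obtain ⟨a, b, hb, hab⟩ := IsFractionRing.div_surjective (A := X.presheaf.stalk (x l)) (c : X.functionField)
    have hb0 : algebraMap (X.presheaf.stalk (x l)) X.functionField b ≠ 0 :=
      (map_ne_zero_iff _ (IsFractionRing.injective _ _)).2 (nonZeroDivisors.ne_zero hb)
    have hmem : subEquiv x l a ∈ P.comap (Subring.inclusion hl) := by
      rw [Ideal.mem_comap]
      have he : Subring.inclusion hl (subEquiv x l a) = c * Subring.inclusion hl (subEquiv x l b) := Subtype.ext (by
        show algebraMap (X.presheaf.stalk (x l)) X.functionField a = (c : X.functionField) * algebraMap _ _ b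
        rw [← hab, div_mul_cancel₀ _ hb0])
      rw [he]
      exact P.mul_mem_right _ hcP
    rw [hbot, Ideal.mem_bot] at hmem
    refine hc0 (Subtype.ext ?_)
    rw [← hab, show algebraMap (X.presheaf.stalk (x l)) X.functionField a = 0 from congrArg Subtype.val hmem, zero_div]
    rfl
  have h1 : (mi ≫ toX x i) ⟨P, hP⟩ = x i := by
    rw [Scheme.Hom.comp_apply]; exact toX_closedPoint x i _ (hmax i le_sup_left)
  have h2 : (mj ≫ toX x j) ⟨P, hP⟩ = x j := by
    rw [Scheme.Hom.comp_apply]; exact toX_closedPoint x j _ (hmax j le_sup_right)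
  rw [heq, h2] at h1
  exact hij (hinj h1).symm

theorem isIso_stalkMap_fromSpecStalk (y : X) :
    IsIso ((X.fromSpecStalk y).stalkMap (closedPoint (X.presheaf.stalk y))) := by
  have h := Scheme.stalkClosedPointTo_fromSpecStalk y
  rw [Scheme.stalkClosedPointTo, ← Iso.eq_comp_inv] at h
  rw [h]
  infer_instance

include hN hd hinj in
/-- Finitely many points of codimension one lie in an affine open. -/
theorem exists_affine_codim_one (hr : 1 ≤ r) : ∃ U : X.Opens, IsAffineOpen U ∧ ∀ i, x i ∈ U := by
  haveI : ∀ i, IsNoetherianRing (sub x i) := fun i => haveI := hN i; isNoetherianRing_of_ringEquiv _ (subEquiv x i)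
  haveI : ∀ i, IsFractionRing (sub x i) X.functionField := isFractionRing_sub x
  haveI : ∀ i, IsLocalRing (sub x i) := fun i => (subEquiv x i).isLocalRing
  have hdim : ∀ i, ringKrullDim (sub x i) = 1 := fun i => by
    rw [← ringKrullDim_eq_of_ringEquiv (subEquiv x i), hd i]
  have hsl : ∀ i, Finite (MaximalSpectrum (sub x i)) := fun i => inferInstance
  obtain ⟨-, -, -, -, hoi, hcov, -⟩ := Groth.Agent.S7665.result X.functionField r hr (sub x) hdim hsl
    fun i j hij => sup_eq_top x hd hinj hij
  let A : Subring X.functionField := ⨅ i, sub x i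
  let T := Spec (CommRingCat.of A)
  let incl : ∀ i, Spec (CommRingCat.of (sub x i)) ⟶ T := fun i => Spec.map (CommRingCat.ofHom (Subring.inclusion (iInf_le (sub x) i)))
  haveI : ∀ i, IsOpenImmersion (incl i) := hoi
  let gK : ∀ i, Spec (CommRingCat.of X.functionField) ⟶ Spec (CommRingCat.of (sub x i)) := fun i =>
    Spec.map (CommRingCat.ofHom (sub x i).subtype)
  haveI hgK : ∀ i, IsDominant (gK i) := fun i => ⟨(PrimeSpectrum.denseRange_comap_iff_ker_le_nilRadical (sub x i).subtype).2
    (((RingHom.injective_iff_ker_eq_bot (sub x i).subtype).1 Subtype.val_injective).trans_le bot_le)⟩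
  have hK : ∀ i, gK i ≫ incl i = Spec.map (CommRingCat.ofHom A.subtype) := fun i => by
    simp only [gK, incl, ← Spec.map_comp]
    rfl
  let 𝒰 : T.OpenCover := Scheme.openCoverOfIsOpenCover T (fun i : ULift.{u} (Fin r) => (incl i.down).opensRange)
    (IsOpenCover.mk (eq_top_iff.2 fun t _ => by
      obtain ⟨i, hi⟩ := Set.mem_iUnion.1 (hcov.ge (Set.mem_univ t))
      exact Opens.mem_iSup.2 ⟨⟨i⟩, hi⟩))
  let loc : ∀ i : ULift.{u} (Fin r), 𝒰.X i ⟶ X := fun i => (incl i.down).isoOpensRange.inv ≫ toX x i.down
  have hagree : ∀ a b, pullback.fst (𝒰.f a) (𝒰.f b) ≫ loc a = pullback.snd _ _ ≫ loc b := fun a b => by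
    haveI : IsSeparated (terminal.from X) := Scheme.IsSeparated.isSeparated_terminal_from
    let la : Spec (CommRingCat.of X.functionField) ⟶ 𝒰.X a := gK a.down ≫ (incl a.down).isoOpensRange.hom
    let lb : Spec (CommRingCat.of X.functionField) ⟶ 𝒰.X b := gK b.down ≫ (incl b.down).isoOpensRange.hom
    have hab : la ≫ 𝒰.f a = lb ≫ 𝒰.f b := by
      show (gK a.down ≫ (incl a.down).isoOpensRange.hom) ≫ (incl a.down).opensRange.ι =
        (gK b.down ≫ (incl b.down).isoOpensRange.hom) ≫ (incl b.down).opensRange.ι
      rw [Category.assoc, Category.assoc, Scheme.Hom.isoOpensRange_hom_ι, Scheme.Hom.isoOpensRange_hom_ι, hK, hK]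
    let g := pullback.lift la lb hab
    haveI : IsDominant la := inferInstanceAs (IsDominant (gK a.down ≫ (incl a.down).isoOpensRange.hom))
    haveI : IsIntegral (𝒰.X a) := IsIntegral.of_isIso (incl a.down).isoOpensRange.hom
    haveI : IsOpenImmersion (pullback.fst (𝒰.f a) (𝒰.f b)) := inferInstance
    haveI : Nonempty ↥(Spec (CommRingCat.of X.functionField)) := inferInstance
    haveI : Nonempty ↥(pullback (𝒰.f a) (𝒰.f b)) := ⟨g (Classical.arbitrary _)⟩
    haveI : IsIntegral (pullback (𝒰.f a) (𝒰.f b)) := isIntegral_of_isOpenImmersion (pullback.fst (𝒰.f a) (𝒰.f b))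
    haveI : IsDominant g := ⟨by
      have hd' : DenseRange (g ≫ pullback.fst (𝒰.f a) (𝒰.f b)) := by
        rw [pullback.lift_fst]; exact la.denseRange
      rw [DenseRange, (pullback.fst (𝒰.f a) (𝒰.f b)).isOpenEmbedding.isInducing.dense_iff]
      intro q
      rw [← Set.range_comp]
      exact hd' _⟩
    refine ext_of_isDominant_of_isSeparated (terminal.from X) (terminal.hom_ext _ _) g ?_
    rw [pullback.lift_fst_assoc, pullback.lift_snd_assoc]
    simp only [la, lb, loc, Category.assoc, Iso.hom_inv_id_assoc]
    exact (generic_toX x a.down).trans (generic_toX x b.down).symm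
  let f : T ⟶ X := 𝒰.glueMorphisms loc hagree
  have hf : ∀ i, incl i ≫ f = toX x i := fun i => by
    have h := 𝒰.ι_glueMorphisms loc hagree ⟨i⟩
    calc incl i ≫ f = (incl i).isoOpensRange.hom ≫ 𝒰.f ⟨i⟩ ≫ f := by
          rw [← Category.assoc]
          exact congrArg (· ≫ f) (Scheme.Hom.isoOpensRange_hom_ι (incl i)).symm
      _ = toX x i := by rw [h]; exact Iso.hom_inv_id_assoc _ _
  let t : Fin r → T := fun i => incl i (closedPoint (sub x i))
  have hft : ∀ i, f (t i) = x i := fun i => by
    rw [← Scheme.Hom.comp_apply, hf]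
    exact toX_closedPoint x i _ (IsLocalRing.maximalIdeal.isMaximal _)
  have hst : ∀ i, IsIso (f.stalkMap (t i)) := fun i => by
    have key : ∀ (p : Spec (CommRingCat.of (sub x i))),
        p = closedPoint (sub x i) → IsIso ((toX x i).stalkMap p) := fun p hp => by
      subst hp
      haveI : IsIso (CommRingCat.ofHom (subEquiv x i).toRingHom) :=
        inferInstanceAs (IsIso (subEquiv x i).toCommRingCatIso.hom)
      have hz : Spec.map (CommRingCat.ofHom (subEquiv x i).toRingHom) (closedPoint (sub x i)) =
          closedPoint (X.presheaf.stalk (x i)) := by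
        refine PrimeSpectrum.ext (IsLocalRing.eq_maximalIdeal ?_)
        haveI : (closedPoint (sub x i)).asIdeal.IsMaximal := IsLocalRing.maximalIdeal.isMaximal _
        exact Ideal.comap_isMaximal_of_surjective _ (subEquiv x i).surjective
      rw [toX, Scheme.Hom.stalkMap_comp]
      haveI : IsIso ((X.fromSpecStalk (x i)).stalkMap
          (Spec.map (CommRingCat.ofHom (subEquiv x i).toRingHom) (closedPoint (sub x i)))) := by
        rw [hz]; exact isIso_stalkMap_fromSpecStalk (x i)
      infer_instance
    have h : IsIso ((incl i ≫ f).stalkMap (closedPoint (sub x i))) := by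
      rw [hf]; exact key _ rfl
    rw [Scheme.Hom.stalkMap_comp] at h
    exact IsIso.of_isIso_comp_right (f.stalkMap (incl i (closedPoint (sub x i)))) ((incl i).stalkMap (closedPoint (sub x i)))
  haveI : IsDomain A := inferInstance
  haveI : IsIntegral T := inferInstance
  haveI : QuasiSeparatedSpace X := inferInstance
  classical
  obtain ⟨U, hU, hUs⟩ := Groth.Agent.S7660.result f
    (by rw [irreducibleComponents_eq_singleton]; exact Set.finite_singleton _)
    (fun η hη => by
      rw [irreducibleComponents_eq_singleton, Set.mem_singleton_iff] at hη ⊢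
      have hηg : η = genericPoint T := IsGenericPoint.eq (show IsGenericPoint η Set.univ from hη) (genericPoint_spec T)
      obtain ⟨i⟩ : Nonempty (Fin r) := ⟨⟨0, hr⟩⟩
      have hi : incl i (genericPoint (Spec (CommRingCat.of (sub x i)))) = η := by
        rw [hηg]; exact genericPoint_eq_of_isOpenImmersion (incl i)
      have hfη : f η = genericPoint X := by
        rw [← hi, ← Scheme.Hom.comp_apply, hf]
        obtain ⟨z⟩ : Nonempty ↥(Spec (CommRingCat.of X.functionField)) := inferInstance
        have hz : gK i z = genericPoint (Spec (CommRingCat.of (sub x i))) := by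
          refine IsGenericPoint.eq ?_ (genericPoint_spec _)
          show closure {gK i z} = Set.univ
          rw [← Set.eq_univ_iff_forall.2 (fun q => (gK i).denseRange q)]
          congr 1
          refine Set.Subset.antisymm (Set.singleton_subset_iff.2 ⟨z, rfl⟩) ?_
          rintro _ ⟨z', rfl⟩
          rw [Subsingleton.elim (α := PrimeSpectrum X.functionField) z' z]
          rfl
        rw [← hz, ← Scheme.Hom.comp_apply, generic_toX]
        have hsp : X.fromSpecStalk (genericPoint X) z ⤳ genericPoint X := Scheme.range_fromSpecStalk.le ⟨z, rfl⟩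
        exact (hsp.antisymm (genericPoint_specializes _)).eq
      rw [hfη]
      exact genericPoint_spec X)
    (fun η η' hη hη' _ => by
      rw [irreducibleComponents_eq_singleton, Set.mem_singleton_iff] at hη hη'
      exact IsGenericPoint.eq (show IsGenericPoint η Set.univ from hη) hη')
    (Finset.univ.image t) (fun p hp => by
      obtain ⟨i, -, rfl⟩ := Finset.mem_image.1 hp
      exact hst i)
  exact ⟨U, hU, fun i => hft i ▸ hUs _ (Finset.mem_image.2 ⟨i, Finset.mem_univ _, rfl⟩)⟩

omit x in
/-- Finitely many points of codimension at most one lie in an affine open. -/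
theorem exists_affine (s : Finset X)
    (hs : ∀ x ∈ s, IsNoetherianRing (X.presheaf.stalk x) ∧ ringKrullDim (X.presheaf.stalk x) ≤ 1) :
    ∃ U : X.Opens, IsAffineOpen U ∧ ∀ x ∈ s, x ∈ U := by
  classical
  let s' := s.filter fun x => x ≠ genericPoint X
  let e := s'.equivFin
  have hrest : ∀ (U : X.Opens), (U : Set X).Nonempty → (∀ x ∈ s', x ∈ U) → ∀ x ∈ s, x ∈ U := fun U hU h x hx => by
    by_cases hg : x = genericPoint X
    · exact hg ▸ ((genericPoint_spec X).mem_open_set_iff U.isOpen).2 (by simpa using hU)
    · exact h x (Finset.mem_filter.2 ⟨hx, hg⟩)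
  rcases Nat.eq_zero_or_pos s'.card with h0 | hpos
  · obtain ⟨U, hU, hxU, -⟩ := exists_isAffineOpen_mem_and_subset (x := genericPoint X) (U := (⊤ : X.Opens)) trivial
    exact ⟨U, hU, hrest U ⟨_, hxU⟩ fun x hx => absurd hx (by rw [Finset.card_eq_zero.1 h0]; simp)⟩
  · have hp : ∀ i, (e.symm i : X) ∈ s ∧ (e.symm i : X) ≠ genericPoint X := fun i => Finset.mem_filter.1 (e.symm i).2
    obtain ⟨U, hU, hUx⟩ := exists_affine_codim_one (fun i => (e.symm i : X)) (fun i => (hs _ (hp i).1).1)
      (fun i => le_antisymm (hs _ (hp i).1).2 (by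
        by_contra hlt
        refine (hp i).2 (eq_genericPoint _ ?_)
        generalize ringKrullDim (X.presheaf.stalk (e.symm i : X)) = d at hlt
        induction d using WithBot.recBotCoe with
        | bot => exact bot_le
        | coe n =>
          have hn : n < 1 := by exact_mod_cast lt_of_not_ge hlt
          rw [ENat.lt_one_iff_eq_zero] at hn
          rw [hn]; rfl))
      (Subtype.val_injective.comp e.symm.injective) hpos
    refine ⟨U, hU, hrest U ⟨_, hUx ⟨0, hpos⟩⟩ fun x hx => ?_⟩
    simpa using hUx (e ⟨x, hx⟩)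

end GrothLib.FinAffGlue2
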