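import Groth.Agent.Lib.FinAffGlue2.Integral
import Groth.Agent.S7662
import Groth.Agent.Lib.RedSub.Basic

/-!
# Finitely many points of codimension at most one on a separated scheme
-/

set_option autoImplicit false
set_option linter.all false
set_option backward.isDefEq.respectTransparency false

universe u

open CategoryTheory CategoryTheory.Limits AlgebraicGeometry TopologicalSpace IsLocalRing

noncomputable section

namespace GrothLib.FinAffGlue2

/-- The case of finitely many components. -/
theorem exists_affine_of_finite_components (X : Scheme.{u}) [X.IsSeparated]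
    (hfin : (irreducibleComponents (X : Type u)).Finite) (s : Finset X)
    (hs : ∀ x ∈ s, IsNoetherianRing (X.presheaf.stalk x) ∧ ringKrullDim (X.presheaf.stalk x) ≤ 1) :
    ∃ U : X.Opens, IsAffineOpen U ∧ ∀ x ∈ s, x ∈ U := by
  classical
  refine Groth.Agent.S7662.result X hfin s fun Z hZ => ?_
  let I := Scheme.IdealSheafData.vanishingIdeal (⟨Z, isClosed_of_mem_irreducibleComponents Z hZ⟩ : Closeds X)
  haveI : IsReduced I.subscheme := GrothLib.RedSub.isReduced_subscheme_vanishingIdeal _
  have hr : Set.range I.subschemeι = Z := by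
    rw [Scheme.IdealSheafData.range_subschemeι, Scheme.IdealSheafData.coe_support_vanishingIdeal]
    rfl
  haveI : IrreducibleSpace ↥I.subscheme := by
    have hi : IsIrreducible (Set.range I.subschemeι) := by rw [hr]; exact hZ.1
    haveI : PreirreducibleSpace ↥I.subscheme :=
      ⟨fun u v hu hv ⟨a, _, ha⟩ ⟨b, _, hb⟩ => by
        obtain ⟨u', hu', rfl⟩ := I.subschemeι.isEmbedding.isInducing.isOpen_iff.1 hu
        obtain ⟨v', hv', rfl⟩ := I.subschemeι.isEmbedding.isInducing.isOpen_iff.1 hv
        obtain ⟨_, ⟨c, rfl⟩, h1, h2⟩ := hi.2 u' v' hu' hv' ⟨_, ⟨a, rfl⟩, ha⟩ ⟨_, ⟨b, rfl⟩, hb⟩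
        exact ⟨c, trivial, h1, h2⟩⟩
    obtain ⟨_, y, -⟩ := hi.1
    exact { toNonempty := ⟨y⟩ }
  haveI : IsIntegral I.subscheme := isIntegral_of_irreducibleSpace_of_isReduced _
  haveI : I.subscheme.IsSeparated := ⟨by rw [← terminal.comp_from I.subschemeι]; infer_instance⟩
  obtain ⟨V, hV, hsV⟩ := exists_affine (X := I.subscheme) (s.preimage I.subschemeι I.subschemeι.isEmbedding.injective.injOn)
    fun y hy => by
      obtain ⟨hN, hd⟩ := hs _ (Finset.mem_preimage.1 hy)
      have hsur : Function.Surjective (I.subschemeι.stalkMap y).hom := I.subschemeι.stalkMap_surjective y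
      haveI := hN
      exact ⟨isNoetherianRing_of_surjective _ _ _ hsur, (ringKrullDim_le_of_surjective _ hsur).trans hd⟩
  refine ⟨V, hV, fun t ht htZ => ?_⟩
  obtain ⟨y, rfl⟩ := hr.ge htZ
  exact ⟨y, hsV y (Finset.mem_preimage.2 ht), rfl⟩

/-- Finitely many points with Noetherian local rings of dimension at most one lie in an affine open. -/
theorem exists_affine_of_dim_le_one (X : Scheme.{u}) [X.IsSeparated]
    (hirr : ∀ U : X.Opens, IsCompact (U : Set X) → (irreducibleComponents (U : Set X)).Finite)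
    (s : Finset X) (hs : ∀ x ∈ s, IsNoetherianRing (X.presheaf.stalk x) ∧ ringKrullDim (X.presheaf.stalk x) ≤ 1) :
    ∃ U : X.Opens, IsAffineOpen U ∧ ∀ x ∈ s, x ∈ U := by
  classical
  choose A hA hyA _ using fun y : X => exists_isAffineOpen_mem_and_subset (x := y) (U := ⊤) trivial
  let W : X.Opens := ⨆ y ∈ s, A y
  have hc : IsCompact (W : Set X) := by
    simp only [W, Opens.coe_iSup]
    exact s.finite_toSet.isCompact_biUnion fun y _ => (hA y).isCompact
  haveI : W.toScheme.IsSeparated := ⟨by rw [← terminal.comp_from W.ι]; infer_instance⟩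
  obtain ⟨V, hV, hsV⟩ := exists_affine_of_finite_components W.toScheme (hirr W hc)
    (s.preimage W.ι W.ι.isOpenEmbedding.injective.injOn) fun y hy => by
      obtain ⟨hN, hd⟩ := hs _ (Finset.mem_preimage.1 hy)
      let e := (W.stalkIso y).commRingCatIsoToRingEquiv
      haveI : IsNoetherianRing (X.presheaf.stalk y.1) := hN
      exact ⟨isNoetherianRing_of_ringEquiv _ e.symm, (ringKrullDim_eq_of_ringEquiv e).le.trans hd⟩
  refine ⟨W.ι ''ᵁ V, hV.image_of_isOpenImmersion W.ι, fun x hx => ?_⟩
  have hxW : x ∈ W := Opens.mem_iSup.2 ⟨x, Opens.mem_iSup.2 ⟨hx, hyA x⟩⟩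
  exact ⟨⟨x, hxW⟩, hsV _ (Finset.mem_preimage.2 hx), rfl⟩

end GrothLib.FinAffGlue2
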